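import Groth.Agent.Lib.ExtRegular
import Groth.Agent.Lib.ExtFil4.Alg
import Groth.Agent.Lib.LocInt28.Frame
import Groth.Agent.Lib.CI2.Conormal
import Groth.Agent.Lib.DeRhamH7.BaseChange

/-!
# Top forms and `Ext` along a regular embedding of smooth algebras
-/

set_option autoImplicit false
set_option linter.style.haveILetI false

universe u

open TensorProduct exteriorPower CategoryTheory

namespace Groth.Agent.ExtTopForms9

section Invertible

variable {B P : Type u} [CommRing B] [AddCommGroup P] [Module B P] [Module.Finite B P] [Module.Projective B P]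
  {n : ℕ} (hn : ∀ p : PrimeSpectrum B, Module.rankAtStalk P p = n)

include hn

/-- Locally, the top exterior power is generated by one element detected by a functional. -/
theorem exists_local_gen (𝔭 : PrimeSpectrum B) :
    ∃ (w : ⋀[B]^n P) (φ : ⋀[B]^n P →ₗ[B] B), φ w ∉ 𝔭.asIdeal ∧
      ∀ z : ⋀[B]^n P, ∃ c ∉ 𝔭.asIdeal, c • z ∈ Submodule.span B {w} := by
  classical
  obtain ⟨q, f, hdet, hspan⟩ := LocInt28.exists_frame 𝔭 (hn 𝔭)
  refine ⟨ιMulti B n q, exteriorPower.alternatingMapLinearEquiv
    ((Matrix.detRowAlternating (R := B) (n := Fin n)).compLinearMap (LinearMap.pi f)), ?_, ?_⟩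
  · rw [exteriorPower.alternatingMapLinearEquiv_apply_ιMulti]
    refine fun h => hdet ?_
    rw [← Matrix.det_transpose]
    exact h
  · intro z
    have hz : z ∈ Submodule.span B (Set.range (ιMulti B n (M := P))) := by rw [ιMulti_span]; trivial
    induction hz using Submodule.span_induction with
    | zero => exact ⟨1, (Ideal.ne_top_iff_one _).1 𝔭.isPrime.ne_top, by simp⟩
    | add x y _ _ hx hy =>
      obtain ⟨c, hc, hcx⟩ := hx
      obtain ⟨d, hd, hdy⟩ := hy
      refine ⟨c * d, 𝔭.isPrime.mul_notMem hc hd, ?_⟩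
      rw [smul_add]
      refine add_mem ?_ ?_
      · rw [mul_comm, mul_smul]; exact Submodule.smul_mem _ _ hcx
      · rw [mul_smul]; exact Submodule.smul_mem _ _ hdy
    | smul r x _ hx =>
      obtain ⟨c, hc, hcx⟩ := hx
      exact ⟨c, hc, by rw [smul_comm]; exact Submodule.smul_mem _ _ hcx⟩
    | mem x hx =>
      obtain ⟨v, rfl⟩ := hx
      choose c hc hcv using fun i => hspan (v i)
      choose a ha using fun i => (Submodule.mem_span_range_iff_exists_fun B).mp (hcv i)
      refine ⟨∏ i, c i, fun h => ?_, ?_⟩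
      · obtain ⟨i, -, hi⟩ := (𝔭.isPrime.prod_mem_iff).mp h
        exact hc i hi
      · rw [show (∏ i, c i) • ιMulti B n v = ιMulti B n (fun i => c i • v i) from
          ((ιMulti B n).toMultilinearMap.map_smul_univ c v).symm,
          show (fun i => c i • v i) = fun i => ∑ j, a i j • q j from funext fun i => (ha i).symm,
          show ιMulti B n (fun i => ∑ j, a i j • q j) = _ from
            MultilinearMap.map_sum (ιMulti B n).toMultilinearMap (fun i j => a i j • q j)]
        refine Submodule.sum_mem _ fun r _ => ?_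
        rw [MultilinearMap.map_smul_univ]
        refine Submodule.smul_mem _ _ ?_
        by_cases hr : Function.Injective r
        · have hb : Function.Bijective r := Finite.injective_iff_bijective.1 hr
          rw [show (ιMulti B n).toMultilinearMap (fun i => q (r i)) = ιMulti B n (q ∘ Equiv.ofBijective r hb) from rfl,
            (ιMulti B n).map_perm]
          exact Submodule.smul_of_tower_mem _ _ (Submodule.mem_span_singleton_self _)
        · obtain ⟨i, j, hij, hne⟩ : ∃ i j, r i = r j ∧ i ≠ j := by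
            simpa [Function.Injective] using hr
          rw [show (ιMulti B n).toMultilinearMap (fun i => q (r i)) = 0 from
            (ιMulti B n).map_eq_zero_of_eq _ (show q (r i) = q (r j) by rw [hij]) hne]
          exact Submodule.zero_mem _

/-- The top exterior power has rank one. -/
theorem smul_eq_smul (φ : ⋀[B]^n P →ₗ[B] B) (x y : ⋀[B]^n P) : φ x • y = φ y • x := by
  rw [← sub_eq_zero]
  by_contra hne
  have htop : (Submodule.span B {φ x • y - φ y • x}).annihilator ≠ ⊤ := fun h => hne (by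
    simpa using (Submodule.mem_annihilator_span_singleton _ (1 : B)).1 (h ▸ Submodule.mem_top))
  obtain ⟨𝔪, hmax, hle⟩ := Ideal.exists_le_maximal _ htop
  obtain ⟨w, -, -, hgen⟩ := exists_local_gen hn ⟨𝔪, hmax.isPrime⟩
  obtain ⟨c, hc, hcx⟩ := hgen x
  obtain ⟨d, hd, hdy⟩ := hgen y
  obtain ⟨a, ha⟩ := Submodule.mem_span_singleton.1 hcx
  obtain ⟨b, hb⟩ := Submodule.mem_span_singleton.1 hdy
  refine hmax.isPrime.mul_notMem hc hd (hle ((Submodule.mem_annihilator_span_singleton _ _).2 ?_))
  have h1 : c * φ x = a * φ w := by simpa using congrArg φ ha.symm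
  have h2 : d * φ y = b * φ w := by simpa using congrArg φ hb.symm
  rw [smul_sub, sub_eq_zero, smul_smul, smul_smul, show c * d * φ x = (c * φ x) * d by ring,
    show c * d * φ y = (d * φ y) * c by ring, h1, h2, mul_smul, mul_smul (b * φ w), ← ha, ← hb, smul_smul,
    smul_smul]
  congr 1
  ring

theorem contract_smul_comm (s t : Module.Dual B (⋀[B]^n P) ⊗[B] ⋀[B]^n P) :
    contractLeft B (⋀[B]^n P) s • t = contractLeft B (⋀[B]^n P) t • s := by
  induction s with
  | zero => simp
  | add s s' hs hs' => rw [map_add, add_smul, hs, hs', smul_add]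
  | tmul ψ y =>
    induction t with
    | zero => simp
    | add t t' ht ht' => rw [map_add, add_smul, smul_add, ht, ht']
    | tmul φ x =>
      rw [contractLeft_apply, contractLeft_apply]
      have hfun : ψ y • φ = φ y • ψ := LinearMap.ext fun z => by
        have := congrArg ψ (smul_eq_smul hn φ z y)
        rw [map_smul, map_smul, smul_eq_mul, smul_eq_mul] at this
        rw [LinearMap.smul_apply, LinearMap.smul_apply, smul_eq_mul, smul_eq_mul]
        linear_combination this
      rw [TensorProduct.smul_tmul', hfun, TensorProduct.smul_tmul, ← smul_eq_smul hn φ x y, TensorProduct.tmul_smul]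

/-- The top exterior power of a projective module of constant rank is invertible. -/
theorem invertible : Module.Invertible B (⋀[B]^n P) := by
  have htop : LinearMap.range (contractLeft B (⋀[B]^n P)) = ⊤ := by
    by_contra hne
    obtain ⟨𝔪, hmax, hle⟩ := Ideal.exists_le_maximal _ hne
    obtain ⟨w, φ, hφ, -⟩ := exists_local_gen hn ⟨𝔪, hmax.isPrime⟩
    exact hφ (hle ⟨φ ⊗ₜ w, contractLeft_apply φ w⟩)
  obtain ⟨t, ht⟩ := LinearMap.range_eq_top.1 htop 1
  have key : ∀ s, s = contractLeft B (⋀[B]^n P) s • t := fun s => by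
    rw [contract_smul_comm hn s t, ht, one_smul]
  exact ⟨⟨fun s s' h => by rw [key s, key s', h], LinearMap.range_eq_top.1 htop⟩⟩

end Invertible

theorem projective_exterior (A P : Type u) [CommRing A] [AddCommGroup P] [Module A P] [Module.Finite A P]
    [Module.Projective A P] (r : ℕ) : Module.Projective A (⋀[A]^r P) := by
  obtain ⟨t, π, hπ⟩ := Module.Finite.exists_fin' A P
  obtain ⟨s, hs⟩ := Module.projective_lifting_property π LinearMap.id hπ
  refine Module.Projective.of_split (M := ⋀[A]^r (Fin t → A)) (exteriorPower.map r s) (exteriorPower.map r π) ?_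
  rw [← exteriorPower.map_comp, hs, exteriorPower.map_id]

variable (k : Type u) [Field k] (A : Type u) [CommRing A] [Algebra k A] [Algebra.FiniteType k A] [Algebra.Smooth k A]

set_option maxHeartbeats 1000000 in
/-- The determinant of the conormal sequence of a regular embedding. -/
theorem nonempty_det_equiv (n : ℕ) (hn : ∀ q : PrimeSpectrum A, Module.rankAtStalk (Ω[A⁄k]) q = n)
    (xs : List A) (hreg : RingTheory.Sequence.IsWeaklyRegular A xs) (J : Ideal A) (hJ : Ideal.ofList xs = J)
    [Algebra.Smooth k (A ⧸ J)] (hpn : xs.length ≤ n) :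
    Nonempty (↥(⋀[A ⧸ J]^n ((A ⧸ J) ⊗[A] Ω[A⁄k])) ≃ₗ[A ⧸ J] ↥(⋀[A ⧸ J]^(n - xs.length) (Ω[(A ⧸ J)⁄k]))) ∧
      Module.Invertible (A ⧸ J) ↥(⋀[A ⧸ J]^(n - xs.length) (Ω[(A ⧸ J)⁄k])) := by
  classical
  set p := xs.length with hp
  let B := A ⧸ J
  haveI : Algebra.FiniteType k B := Algebra.FiniteType.of_surjective (Ideal.Quotient.mkₐ k J) Ideal.Quotient.mk_surjective
  have hsur : Function.Surjective (algebraMap A B) := Ideal.Quotient.mk_surjective
  have hxJ : ∀ i : Fin p, xs.get i ∈ J := fun i => hJ ▸ Ideal.subset_span (List.get_mem xs i)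
  let f : (Fin p → B) →ₗ[B] B ⊗[A] Ω[A⁄k] :=
    Fintype.linearCombination B fun i => (1 : B) ⊗ₜ[A] KaehlerDifferential.D k A (xs.get i)
  let g := KaehlerDifferential.mapBaseChange k A B
  have hg : Function.Surjective g := KaehlerDifferential.mapBaseChange_surjective k A B hsur
  have hgf : ∀ c, g (f c) = 0 := fun c => by
    simp only [f, g, Fintype.linearCombination_apply, map_sum, map_smul, KaehlerDifferential.mapBaseChange_tmul,
      KaehlerDifferential.map_D, one_smul]
    refine Finset.sum_eq_zero fun i _ => ?_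
    rw [show algebraMap A B (xs.get i) = 0 from Ideal.Quotient.eq_zero_iff_mem.2 (hxJ i), map_zero, smul_zero]
  have hspan : Ideal.span (Set.range xs.get) = J := by
    rw [← hJ]
    refine congrArg Ideal.span (Set.ext fun x => ?_)
    simp [List.mem_iff_get]
  have hker : ∀ e, g e = 0 → e ∈ LinearMap.range f := by
    intro e he
    have := (KaehlerDifferential.range_kerCotangentToTensor k A B hsur).ge (x := e) he
    obtain ⟨z, rfl⟩ := this
    obtain ⟨⟨x, hx⟩, rfl⟩ := Ideal.toCotangent_surjective _ z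
    rw [KaehlerDifferential.kerCotangentToTensor_toCotangent]
    have hxJ' : x ∈ J := Ideal.Quotient.eq_zero_iff_mem.1 hx
    rw [← hspan, Ideal.mem_span_range_iff_exists_fun] at hxJ'
    obtain ⟨c, hc⟩ := hxJ'
    refine ⟨fun i => algebraMap A B (c i), ?_⟩
    show f _ = (1 : B) ⊗ₜ[A] KaehlerDifferential.D k A x
    rw [← hc, map_sum, TensorProduct.tmul_sum]
    simp only [f, Fintype.linearCombination_apply]
    refine Finset.sum_congr rfl fun i _ => ?_
    rw [Derivation.leibniz, TensorProduct.tmul_add, ← TensorProduct.smul_tmul (R := A) (xs.get i),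
      show (xs.get i) • (1 : B) = 0 by
        rw [← Algebra.algebraMap_eq_smul_one]; exact Ideal.Quotient.eq_zero_iff_mem.2 (hxJ i),
      TensorProduct.zero_tmul, add_zero, TensorProduct.tmul_smul, algebraMap_smul]
  have hinj : Function.Injective f := by
    obtain ⟨l, hl⟩ := (Algebra.FormallySmooth.iff_split_injection (R := k) hsur).1 inferInstance
    refine (injective_iff_map_eq_zero f).2 fun c hc => funext fun i => ?_
    choose a ha using fun i => hsur (c i)
    have hmem : ∑ i, a i * xs.get i ∈ RingHom.ker (algebraMap A B) :=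
      Submodule.sum_mem _ fun i _ => Ideal.mul_mem_left _ _ (Ideal.Quotient.eq_zero_iff_mem.2 (hxJ i))
    have h0 : KaehlerDifferential.kerCotangentToTensor k A B (Ideal.toCotangent _ ⟨_, hmem⟩) = 0 := by
      rw [KaehlerDifferential.kerCotangentToTensor_toCotangent, ← hc]
      show (1 : B) ⊗ₜ[A] KaehlerDifferential.D k A (∑ i, a i * xs.get i) = f c
      rw [map_sum, TensorProduct.tmul_sum]
      simp only [f, Fintype.linearCombination_apply]
      refine Finset.sum_congr rfl fun i _ => ?_
      rw [Derivation.leibniz, TensorProduct.tmul_add, ← TensorProduct.smul_tmul (R := A) (xs.get i),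
        show (xs.get i) • (1 : B) = 0 by
          rw [← Algebra.algebraMap_eq_smul_one]; exact Ideal.Quotient.eq_zero_iff_mem.2 (hxJ i),
        TensorProduct.zero_tmul, add_zero, TensorProduct.tmul_smul, ← ha, algebraMap_smul]
    have h1 := congrArg l h0
    rw [← LinearMap.comp_apply, hl, LinearMap.id_apply, map_zero, Ideal.toCotangent_eq_zero] at h1
    rw [← ha i]
    refine Ideal.Quotient.eq_zero_iff_mem.2 (hspan ▸ ?_)
    refine CI2.mem_of_sq_relation (f := xs.get) ?_ a ?_ i
    · rw [List.ofFn_get]; exact CI2.ex_of_isWeaklyRegular xs A hreg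
    · rw [hspan, ← show RingHom.ker (algebraMap A B) = J from Ideal.mk_ker]; exact h1
  obtain ⟨s, hs⟩ := Module.projective_lifting_property g LinearMap.id hg
  have hs' : ∀ y, g (s y) = y := fun y => LinearMap.congr_fun hs y
  let fe : (Fin p → B) ≃ₗ[B] LinearMap.ker g :=
    LinearEquiv.ofBijective (f.codRestrict (LinearMap.ker g) hgf)
      ⟨fun a b h => hinj (congrArg Subtype.val h),
        fun e => (hker e.1 e.2).imp fun c hc => Subtype.ext hc⟩
  let r : B ⊗[A] Ω[A⁄k] →ₗ[B] (Fin p → B) :=
    fe.symm.toLinearMap ∘ₗ (LinearMap.id - s ∘ₗ g).codRestrict (LinearMap.ker g) (fun e => by simp [hs'])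
  have hr : ∀ c, r (f c) = c := fun c => by
    refine fe.symm_apply_eq.2 (Subtype.ext ?_)
    show f c - s (g (f c)) = f c
    rw [hgf, map_zero, sub_zero]
  let e : (B ⊗[A] Ω[A⁄k]) ≃ₗ[B] (Fin p → B) × Ω[B⁄k] :=
    LinearEquiv.ofLinear (r.prod g) (f.coprod s)
      (LinearMap.ext fun ⟨c, y⟩ => by
        have hrs : r (s y) = 0 := by
          refine fe.symm_apply_eq.2 (Subtype.ext ?_)
          show s y - s (g (s y)) = (fe 0 : _).1
          rw [hs', sub_self, map_zero]
          rfl
        simp [hr, hgf, hs', hrs])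
      (LinearMap.ext fun x => by
        show f (r x) + s (g x) = x
        have : f (r x) = x - s (g x) := congrArg Subtype.val (fe.apply_symm_apply _)
        rw [this, sub_add_cancel])
  have hEr : ∀ 𝔭 : PrimeSpectrum B, Module.rankAtStalk (B ⊗[A] Ω[A⁄k]) 𝔭 = n := fun 𝔭 => by
    rw [Module.rankAtStalk_baseChange]; exact hn _
  have hFr : ∀ 𝔭 : PrimeSpectrum B, Module.rankAtStalk (Ω[B⁄k]) 𝔭 = n - p := fun 𝔭 => by
    haveI : Nontrivial B := nontrivial_of_ne 0 1 fun h =>
      𝔭.isPrime.ne_top ((Ideal.eq_top_iff_one _).2 (h ▸ Submodule.zero_mem _))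
    have := hEr 𝔭
    rw [Module.rankAtStalk_eq_of_equiv e, Module.rankAtStalk_prod, Pi.add_apply,
      Module.rankAtStalk_eq_finrank_of_free] at this
    simp at this
    omega
  have hpr : ∀ 𝔭 : PrimeSpectrum B, Module.rankAtStalk (Fin p → B) 𝔭 = p := fun 𝔭 => by
    haveI : Nontrivial B := nontrivial_of_ne 0 1 fun h =>
      𝔭.isPrime.ne_top ((Ideal.eq_top_iff_one _).2 (h ▸ Submodule.zero_mem _))
    rw [Module.rankAtStalk_eq_finrank_of_free]
    simp
  haveI := invertible (B := B) hFr
  haveI := invertible (B := B) hpr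
  haveI := invertible (B := B) hEr
  refine ⟨?_, inferInstance⟩
  have hpn' : p + (n - p) = n := by omega
  let δ := ExtFil4.delta r g hpn'
  have hδ : Function.Bijective δ := Module.Invertible.bijective_of_surjective
    (fun t => ⟨_, ExtFil4.delta_sigma r hgf s hpn' hr hs' t⟩)
  let det : ↥(⋀[B]^p (Fin p → B)) →ₗ[B] B :=
    exteriorPower.alternatingMapLinearEquiv (Matrix.detRowAlternating (R := B) (n := Fin p))
  have hdet : Function.Bijective det := Module.Invertible.bijective_of_surjective fun b =>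
    ⟨b • ιMulti B p (fun i => Pi.single i 1), by
      rw [map_smul, exteriorPower.alternatingMapLinearEquiv_apply_ιMulti]
      show b • Matrix.det (Matrix.of fun i => Pi.single i (1 : B)) = b
      rw [show (Matrix.of fun i => Pi.single i (1 : B) : Matrix (Fin p) (Fin p) B) = 1 from
        Matrix.ext fun i j => by simp [Matrix.one_apply, Pi.single_apply, eq_comm], Matrix.det_one]
      simp⟩
  exact ⟨(LinearEquiv.ofBijective δ hδ).trans
    ((LinearEquiv.rTensor _ (LinearEquiv.ofBijective det hdet)).trans (TensorProduct.lid B _))⟩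

set_option maxHeartbeats 1000000 in
theorem ext_top_forms (n : ℕ) (hn : ∀ q : PrimeSpectrum A, Module.rankAtStalk (Ω[A⁄k]) q = n)
    (xs : List A) (hreg : RingTheory.Sequence.IsWeaklyRegular A xs) (J : Ideal A) (hJ : Ideal.ofList xs = J)
    [Algebra.Smooth k (A ⧸ J)] (hpn : xs.length ≤ n) :
    Nonempty (Abelian.Ext (ModuleCat.of A ↥((⋀[A ⧸ J]^(n - xs.length) (Ω[(A ⧸ J)⁄k])).restrictScalars A))
      (ModuleCat.of A ↥(⋀[A]^n (Ω[A⁄k]))) xs.length ≃ₗ[A] (A ⧸ J)) := by
  classical
  obtain ⟨⟨θ⟩, hinv⟩ := nonempty_det_equiv k A n hn xs hreg J hJ hpn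
  let B := A ⧸ J
  let L := ↥(⋀[B]^(n - xs.length) (Ω[B⁄k]))
  haveI : Module.Invertible B L := hinv
  let ω := ↥(⋀[A]^n (Ω[A⁄k]))
  haveI : Module.Projective A ω := projective_exterior A _ n
  have hω : RingTheory.Sequence.IsWeaklyRegular ω xs :=
    ((TensorProduct.rid A ω : ω ⊗[A] A ≃ₗ[A] ω).toAddEquiv.isWeaklyRegular_congr
      (as := xs) (bs := xs) (List.forall₂_same.2 fun a _ m => (TensorProduct.rid A ω).map_smul a m)).1 hreg.isWeaklyRegular_lTensor
  have hkill : ∀ a ∈ xs, ∀ m : ↥((⋀[B]^(n - xs.length) (Ω[B⁄k])).restrictScalars A), a • m = 0 := by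
    intro a ha m
    apply Subtype.ext
    show a • (m : ExteriorAlgebra B (Ω[B⁄k])) = 0
    rw [← algebraMap_smul B a, show algebraMap A B a = 0 from
      Ideal.Quotient.eq_zero_iff_mem.2 (hJ ▸ Ideal.subset_span ha), zero_smul]
  obtain ⟨⟨e⟩, -⟩ := ExtRegular.ext_of_regular_killed
    ↥((⋀[B]^(n - xs.length) (Ω[B⁄k])).restrictScalars A) xs hkill ω hω
  let ι : ↥((⋀[B]^(n - xs.length) (Ω[B⁄k])).restrictScalars A) ≃ₗ[A] L :=
    { toFun := id, invFun := id, map_add' := fun _ _ => rfl, map_smul' := fun _ _ => rfl }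
  let q : (ω ⧸ (Ideal.ofList xs • (⊤ : Submodule A ω))) ≃ₗ[A] L :=
    (Submodule.quotEquivOfEq _ _ (by rw [hJ])) ≪≫ₗ (TensorProduct.quotTensorEquivQuotSMul ω J).symm ≪≫ₗ
      ((DeRhamH7.bcEquiv A B (Ω[A⁄k]) n).trans θ).restrictScalars A
  exact ⟨e ≪≫ₗ (ι.arrowCongr q) ≪≫ₗ (LinearMap.extendScalarsOfSurjectiveEquiv (R := A) (S := B) Ideal.Quotient.mk_surjective) ≪≫ₗ
    (LinearEquiv.ofBijective (Algebra.linearMap B (Module.End B L)) (Module.Invertible.toModuleEnd_bijective B L)).symm.restrictScalars A⟩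

end Groth.Agent.ExtTopForms9
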